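import Cfsg.Agent.Chev.Checks2
import Cfsg.Agent.Chev.Tab.D4Data

/-! Kernel-checked table facts for type D4, part All (generated). -/

set_option autoImplicit false
set_option maxRecDepth 100000
set_option Elab.async false

namespace CfsgLib.Chev.D4

theorem rootsOK : (data.rootsOK Cfsg.Lie.chevD4) = true := by decide +kernel

theorem corootOK : data.corootOK = true := by decide +kernel

theorem mon0 : (data.monOK 0 && data.hOK 0) = true := by decide +kernel

theorem mon1 : (data.monOK 1 && data.hOK 1) = true := by decide +kernel

theorem mon2 : (data.monOK 2 && data.hOK 2) = true := by decide +kernel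

theorem mon3 : (data.monOK 3 && data.hOK 3) = true := by decide +kernel

theorem hRep0 : (data.hRepOK 23) = true := by decide +kernel

theorem stab0 : ((List.range 24).all (data.stabMoveOK 23)) = true := by decide +kernel

theorem basePair0 : (data.commBaseOK 23 22) = true := by decide +kernel

theorem basePair1 : (data.commBaseOK 23 18) = true := by decide +kernel

theorem basePair2 : (data.commBaseOK 23 13) = true := by decide +kernel

theorem basePair3 : (data.commBaseOK 23 12) = true := by decide +kernel

theorem basePair4 : (data.commBaseOK 23 9) = true := by decide +kernel

theorem pairMoves : ((List.range 24).all data.pairMoveOK) = true := by decide +kernel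

theorem height0 : ((List.range 24).all fun k => (data.heightRowOK Cfsg.Lie.chevD4) (0 + k)) = true := by decide +kernel

theorem lin0 : ((List.range 24).all fun k => (data.linRowOK Cfsg.Lie.chevD4) (0 + k)) = true := by decide +kernel

theorem add0 : ((List.range 24).all fun k => (addOK tab) (0 + k)) = true := by decide +kernel

theorem move0 : ((List.range 24).all fun k => (data.commMoveOK) (0 + k)) = true := by decide +kernel

theorem conj0_0 : ((List.range 24).all fun k => (data.conjOK Cfsg.Lie.chevD4 0) (0 + k)) = true := by decide +kernel

theorem conj1_0 : ((List.range 24).all fun k => (data.conjOK Cfsg.Lie.chevD4 1) (0 + k)) = true := by decide +kernel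

theorem conj2_0 : ((List.range 24).all fun k => (data.conjOK Cfsg.Lie.chevD4 2) (0 + k)) = true := by decide +kernel

theorem conj3_0 : ((List.range 24).all fun k => (data.conjOK Cfsg.Lie.chevD4 3) (0 + k)) = true := by decide +kernel

end CfsgLib.Chev.D4
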