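import Cfsg.Agent.Chev.Checks2
import Cfsg.Agent.Chev.Tab.E6Data

/-! Kernel-checked table facts for type E6, part A (generated). -/

set_option autoImplicit false
set_option maxRecDepth 100000
set_option Elab.async false

namespace CfsgLib.Chev.E6

theorem rootsOK : (data.rootsOK Cfsg.Lie.chevE6) = true := by decide +kernel

theorem corootOK : data.corootOK = true := by decide +kernel

theorem mon0 : (data.monOK 0 && data.hOK 0) = true := by decide +kernel

theorem mon1 : (data.monOK 1 && data.hOK 1) = true := by decide +kernel

theorem mon2 : (data.monOK 2 && data.hOK 2) = true := by decide +kernel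

theorem mon3 : (data.monOK 3 && data.hOK 3) = true := by decide +kernel

theorem mon4 : (data.monOK 4 && data.hOK 4) = true := by decide +kernel

theorem mon5 : (data.monOK 5 && data.hOK 5) = true := by decide +kernel

theorem hRep0 : (data.hRepOK 71) = true := by decide +kernel

theorem stab0 : ((List.range 72).all (data.stabMoveOK 71)) = true := by decide +kernel

theorem basePair0 : (data.commBaseOK 71 70) = true := by decide +kernel

theorem basePair1 : (data.commBaseOK 71 60) = true := by decide +kernel

theorem basePair2 : (data.commBaseOK 71 25) = true := by decide +kernel

theorem pairMoves : ((List.range 72).all data.pairMoveOK) = true := by decide +kernel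

theorem height0 : ((List.range 36).all fun k => (data.heightRowOK Cfsg.Lie.chevE6) (0 + k)) = true := by decide +kernel

theorem height1 : ((List.range 36).all fun k => (data.heightRowOK Cfsg.Lie.chevE6) (36 + k)) = true := by decide +kernel

theorem lin0 : ((List.range 36).all fun k => (data.linRowOK Cfsg.Lie.chevE6) (0 + k)) = true := by decide +kernel

theorem lin1 : ((List.range 36).all fun k => (data.linRowOK Cfsg.Lie.chevE6) (36 + k)) = true := by decide +kernel

theorem add0 : ((List.range 36).all fun k => (addOK tab) (0 + k)) = true := by decide +kernel

theorem add1 : ((List.range 36).all fun k => (addOK tab) (36 + k)) = true := by decide +kernel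

theorem move0 : ((List.range 36).all fun k => (data.commMoveOK) (0 + k)) = true := by decide +kernel

theorem move1 : ((List.range 36).all fun k => (data.commMoveOK) (36 + k)) = true := by decide +kernel

end CfsgLib.Chev.E6
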