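import Cfsg.Agent.Chev.Checks2
import Cfsg.Agent.Chev.Tab.E7Data

/-! Kernel-checked table facts for type E7, part B0 (generated). -/

set_option autoImplicit false
set_option maxRecDepth 100000
set_option Elab.async false

namespace CfsgLib.Chev.E7

theorem conj0_0 : ((List.range 126).all fun k => (data.conjOK Cfsg.Lie.chevE7 0) (0 + k)) = true := by decide +kernel

theorem conj1_0 : ((List.range 126).all fun k => (data.conjOK Cfsg.Lie.chevE7 1) (0 + k)) = true := by decide +kernel

end CfsgLib.Chev.E7
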