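import Cfsg.Agent.Chev.Checks2
import Cfsg.Agent.Chev.Tab.E8Data

/-! Kernel-checked table facts for type E8, part B4 (generated). -/

set_option autoImplicit false
set_option maxRecDepth 100000
set_option Elab.async false

namespace CfsgLib.Chev.E8

theorem conj4_0 : ((List.range 80).all fun k => (data.conjOK Cfsg.Lie.chevE8 4) (0 + k)) = true := by decide +kernel

theorem conj4_1 : ((List.range 80).all fun k => (data.conjOK Cfsg.Lie.chevE8 4) (80 + k)) = true := by decide +kernel

theorem conj4_2 : ((List.range 80).all fun k => (data.conjOK Cfsg.Lie.chevE8 4) (160 + k)) = true := by decide +kernel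

end CfsgLib.Chev.E8
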