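import Cfsg.Agent.Chev.Checks2
import Cfsg.Agent.Chev.Tab.E8Data

/-! Kernel-checked table facts for type E8, part L (generated). -/

set_option autoImplicit false
set_option maxRecDepth 100000
set_option Elab.async false

namespace CfsgLib.Chev.E8

theorem height0 : ((List.range 40).all fun k => (data.heightRowOK Cfsg.Lie.chevE8) (0 + k)) = true := by decide +kernel

theorem height1 : ((List.range 40).all fun k => (data.heightRowOK Cfsg.Lie.chevE8) (40 + k)) = true := by decide +kernel

theorem height2 : ((List.range 40).all fun k => (data.heightRowOK Cfsg.Lie.chevE8) (80 + k)) = true := by decide +kernel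

theorem height3 : ((List.range 40).all fun k => (data.heightRowOK Cfsg.Lie.chevE8) (120 + k)) = true := by decide +kernel

theorem height4 : ((List.range 40).all fun k => (data.heightRowOK Cfsg.Lie.chevE8) (160 + k)) = true := by decide +kernel

theorem height5 : ((List.range 40).all fun k => (data.heightRowOK Cfsg.Lie.chevE8) (200 + k)) = true := by decide +kernel

theorem lin0 : ((List.range 40).all fun k => (data.linRowOK Cfsg.Lie.chevE8) (0 + k)) = true := by decide +kernel

theorem lin1 : ((List.range 40).all fun k => (data.linRowOK Cfsg.Lie.chevE8) (40 + k)) = true := by decide +kernel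

theorem lin2 : ((List.range 40).all fun k => (data.linRowOK Cfsg.Lie.chevE8) (80 + k)) = true := by decide +kernel

theorem lin3 : ((List.range 40).all fun k => (data.linRowOK Cfsg.Lie.chevE8) (120 + k)) = true := by decide +kernel

theorem lin4 : ((List.range 40).all fun k => (data.linRowOK Cfsg.Lie.chevE8) (160 + k)) = true := by decide +kernel

theorem lin5 : ((List.range 40).all fun k => (data.linRowOK Cfsg.Lie.chevE8) (200 + k)) = true := by decide +kernel

end CfsgLib.Chev.E8
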