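import Cfsg.Agent.Chev.Checks2
import Cfsg.Agent.Chev.Tab.F4Data

/-! Kernel-checked table facts for type F4, part A (generated). -/

set_option autoImplicit false
set_option maxRecDepth 100000
set_option Elab.async false

namespace CfsgLib.Chev.F4

theorem rootsOK : (data.rootsOK Cfsg.Lie.chevF4) = true := by decide +kernel

theorem corootOK : data.corootOK = true := by decide +kernel

theorem mon0 : (data.monOK 0 && data.hOK 0) = true := by decide +kernel

theorem mon1 : (data.monOK 1 && data.hOK 1) = true := by decide +kernel

theorem mon2 : (data.monOK 2 && data.hOK 2) = true := by decide +kernel

theorem mon3 : (data.monOK 3 && data.hOK 3) = true := by decide +kernel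

theorem hRep0 : (data.hRepOK 44) = true := by decide +kernel

theorem stab0 : ((List.range 48).all (data.stabMoveOK 44)) = true := by decide +kernel

theorem hRep1 : (data.hRepOK 47) = true := by decide +kernel

theorem stab1 : ((List.range 48).all (data.stabMoveOK 47)) = true := by decide +kernel

theorem basePair0 : (data.commBaseOK 44 47) = true := by decide +kernel

theorem basePair1 : (data.commBaseOK 44 40) = true := by decide +kernel

theorem basePair2 : (data.commBaseOK 44 32) = true := by decide +kernel

theorem basePair3 : (data.commBaseOK 44 29) = true := by decide +kernel

theorem basePair4 : (data.commBaseOK 44 14) = true := by decide +kernel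

theorem basePair5 : (data.commBaseOK 44 6) = true := by decide +kernel

theorem basePair6 : (data.commBaseOK 47 46) = true := by decide +kernel

theorem basePair7 : (data.commBaseOK 47 44) = true := by decide +kernel

theorem basePair8 : (data.commBaseOK 47 41) = true := by decide +kernel

theorem basePair9 : (data.commBaseOK 47 37) = true := by decide +kernel

theorem basePair10 : (data.commBaseOK 47 23) = true := by decide +kernel

theorem basePair11 : (data.commBaseOK 47 18) = true := by decide +kernel

theorem pairMoves : ((List.range 48).all data.pairMoveOK) = true := by decide +kernel

theorem height0 : ((List.range 48).all fun k => (data.heightRowOK Cfsg.Lie.chevF4) (0 + k)) = true := by decide +kernel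

theorem lin0 : ((List.range 48).all fun k => (data.linRowOK Cfsg.Lie.chevF4) (0 + k)) = true := by decide +kernel

theorem add0 : ((List.range 48).all fun k => (addOK tab) (0 + k)) = true := by decide +kernel

theorem move0 : ((List.range 48).all fun k => (data.commMoveOK) (0 + k)) = true := by decide +kernel

end CfsgLib.Chev.F4
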