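import Cfsg.Agent.Chev.Checks2
import Cfsg.Agent.Chev.Tab.F4Data

/-! Kernel-checked table facts for type F4, part B (generated). -/

set_option autoImplicit false
set_option maxRecDepth 100000
set_option Elab.async false

namespace CfsgLib.Chev.F4

theorem conj0_0 : ((List.range 48).all fun k => (data.conjOK Cfsg.Lie.chevF4 0) (0 + k)) = true := by decide +kernel

theorem conj1_0 : ((List.range 48).all fun k => (data.conjOK Cfsg.Lie.chevF4 1) (0 + k)) = true := by decide +kernel

theorem conj2_0 : ((List.range 48).all fun k => (data.conjOK Cfsg.Lie.chevF4 2) (0 + k)) = true := by decide +kernel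

theorem conj3_0 : ((List.range 48).all fun k => (data.conjOK Cfsg.Lie.chevF4 3) (0 + k)) = true := by decide +kernel

end CfsgLib.Chev.F4
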