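import Cfsg.Agent.Chev.Checks2
import Cfsg.Agent.Chev.Tab.G2Data

/-! Kernel-checked table facts for type G2, part All (generated). -/

set_option autoImplicit false
set_option maxRecDepth 100000
set_option Elab.async false

namespace CfsgLib.Chev.G2

theorem rootsOK : (data.rootsOK Cfsg.Lie.chevG2) = true := by decide +kernel

theorem corootOK : data.corootOK = true := by decide +kernel

theorem mon0 : (data.monOK 0 && data.hOK 0) = true := by decide +kernel

theorem mon1 : (data.monOK 1 && data.hOK 1) = true := by decide +kernel

theorem hRep0 : (data.hRepOK 9) = true := by decide +kernel

theorem stab0 : ((List.range 12).all (data.stabMoveOK 9)) = true := by decide +kernel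

theorem hRep1 : (data.hRepOK 11) = true := by decide +kernel

theorem stab1 : ((List.range 12).all (data.stabMoveOK 11)) = true := by decide +kernel

theorem basePair0 : (data.commBaseOK 9 11) = true := by decide +kernel

theorem basePair1 : (data.commBaseOK 9 8) = true := by decide +kernel

theorem basePair2 : (data.commBaseOK 9 6) = true := by decide +kernel

theorem basePair3 : (data.commBaseOK 9 4) = true := by decide +kernel

theorem basePair4 : (data.commBaseOK 9 1) = true := by decide +kernel

theorem basePair5 : (data.commBaseOK 11 10) = true := by decide +kernel

theorem basePair6 : (data.commBaseOK 11 9) = true := by decide +kernel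

theorem basePair7 : (data.commBaseOK 11 7) = true := by decide +kernel

theorem basePair8 : (data.commBaseOK 11 5) = true := by decide +kernel

theorem basePair9 : (data.commBaseOK 11 3) = true := by decide +kernel

theorem pairMoves : ((List.range 12).all data.pairMoveOK) = true := by decide +kernel

theorem height0 : ((List.range 12).all fun k => (data.heightRowOK Cfsg.Lie.chevG2) (0 + k)) = true := by decide +kernel

theorem lin0 : ((List.range 12).all fun k => (data.linRowOK Cfsg.Lie.chevG2) (0 + k)) = true := by decide +kernel

theorem add0 : ((List.range 12).all fun k => (addOK tab) (0 + k)) = true := by decide +kernel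

theorem move0 : ((List.range 12).all fun k => (data.commMoveOK) (0 + k)) = true := by decide +kernel

theorem conj0_0 : ((List.range 12).all fun k => (data.conjOK Cfsg.Lie.chevG2 0) (0 + k)) = true := by decide +kernel

theorem conj1_0 : ((List.range 12).all fun k => (data.conjOK Cfsg.Lie.chevG2 1) (0 + k)) = true := by decide +kernel

end CfsgLib.Chev.G2
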