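import Cfsg.Agent.Chev.HCard
import Cfsg.Agent.Chev.FineG2
import Cfsg.Agent.Chev.FineB2
import Cfsg.Agent.Chev.FineD4
import Cfsg.Agent.Chev.FineF4
import Cfsg.Agent.Chev.FineE6
import Cfsg.Agent.Chev.FineE7
import Cfsg.Agent.Chev.FineE8

/-! Kernel-checked table facts: fundamental coweights, scaled to integers (generated). -/

set_option autoImplicit false
set_option maxRecDepth 100000
set_option Elab.async false

namespace CfsgLib.Chev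

theorem G2.coweights : ∃ (B : Matrix (Fin 2) (Fin 2) ℤ) (d : ℤ), 0 < d ∧
    B * cartanMat G2.data 2 = Matrix.diagonal fun _ => d :=
  ⟨!![2, 3; 1, 2], 1, by norm_num, by decide +kernel⟩

theorem B2.coweights : ∃ (B : Matrix (Fin 2) (Fin 2) ℤ) (d : ℤ), 0 < d ∧
    B * cartanMat B2.data 2 = Matrix.diagonal fun _ => d :=
  ⟨!![2, 2; 1, 2], 2, by norm_num, by decide +kernel⟩

theorem D4.coweights : ∃ (B : Matrix (Fin 4) (Fin 4) ℤ) (d : ℤ), 0 < d ∧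
    B * cartanMat D4.data 4 = Matrix.diagonal fun _ => d :=
  ⟨!![2, 2, 1, 1; 2, 4, 2, 2; 1, 2, 2, 1; 1, 2, 1, 2], 2, by norm_num, by decide +kernel⟩

theorem F4.coweights : ∃ (B : Matrix (Fin 4) (Fin 4) ℤ) (d : ℤ), 0 < d ∧
    B * cartanMat F4.data 4 = Matrix.diagonal fun _ => d :=
  ⟨!![2, 3, 4, 2; 3, 6, 8, 4; 2, 4, 6, 3; 1, 2, 3, 2], 1, by norm_num, by decide +kernel⟩

theorem E6.coweights : ∃ (B : Matrix (Fin 6) (Fin 6) ℤ) (d : ℤ), 0 < d ∧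
    B * cartanMat E6.data 6 = Matrix.diagonal fun _ => d :=
  ⟨!![4, 3, 5, 6, 4, 2; 3, 6, 6, 9, 6, 3; 5, 6, 10, 12, 8, 4; 6, 9, 12, 18, 12, 6; 4, 6, 8, 12, 10, 5; 2, 3, 4, 6, 5, 4], 3, by norm_num, by decide +kernel⟩

theorem E7.coweights : ∃ (B : Matrix (Fin 7) (Fin 7) ℤ) (d : ℤ), 0 < d ∧
    B * cartanMat E7.data 7 = Matrix.diagonal fun _ => d :=
  ⟨!![4, 4, 6, 8, 6, 4, 2; 4, 7, 8, 12, 9, 6, 3; 6, 8, 12, 16, 12, 8, 4; 8, 12, 16, 24, 18, 12, 6; 6, 9, 12, 18, 15, 10, 5; 4, 6, 8, 12, 10, 8, 4; 2, 3, 4, 6, 5, 4, 3], 2, by norm_num, by decide +kernel⟩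

theorem E8.coweights : ∃ (B : Matrix (Fin 8) (Fin 8) ℤ) (d : ℤ), 0 < d ∧
    B * cartanMat E8.data 8 = Matrix.diagonal fun _ => d :=
  ⟨!![4, 5, 7, 10, 8, 6, 4, 2; 5, 8, 10, 15, 12, 9, 6, 3; 7, 10, 14, 20, 16, 12, 8, 4; 10, 15, 20, 30, 24, 18, 12, 6; 8, 12, 16, 24, 20, 15, 10, 5; 6, 9, 12, 18, 15, 12, 8, 4; 4, 6, 8, 12, 10, 8, 6, 3; 2, 3, 4, 6, 5, 4, 3, 2], 1, by norm_num, by decide +kernel⟩

end CfsgLib.Chev
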