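import Cfsg.Agent.Chev.Tab.G2Data
import Cfsg.Agent.Chev.Tab.B2Data
import Cfsg.Agent.Chev.Tab.D4Data
import Cfsg.Agent.Chev.Tab.F4Data
import Cfsg.Agent.Chev.Tab.E6Data
import Cfsg.Agent.Chev.Tab.E7Data
import Cfsg.Agent.Chev.Tab.E8Data
import Cfsg.Agent.Chev.LiftCheck

/-! Kernel-checked table facts: commutator witnesses. -/

set_option autoImplicit false
set_option maxRecDepth 100000
set_option Elab.async false

namespace CfsgLib.Chev

theorem G2.liftOK : G2.data.liftOK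
    [(8, 5, 0, [1, 0]), (6, 3, 0, [0, 1, 0, 1]), (10, 4, 2, [0, 1]), (7, 1, 2, [1, 0, 1, 0])] = true := by
  decide +kernel

theorem B2.liftOK : B2.data.liftOK
    [(6, 3, 0, [1, 0]), (4, 1, 0, [0, 1]), (6, 0, 1, [1, 0, 1]), (5, 0, 1, [1, 0])] = true := by
  decide +kernel

theorem D4.liftOK : D4.data.liftOK
    [(19, 9, 0, [1, 0]), (14, 4, 0, [1]), (15, 11, 0, [3, 1]), (12, 8, 0, [3]), (16, 9, 0, [1, 2]), (14, 7, 0, [1]), (15, 9, 0, [1, 3]), (14, 8, 0, [1])] = true := by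
  decide +kernel

theorem F4.liftOK : F4.data.liftOK
    [(34, 20, 0, [1, 0]), (27, 13, 0, [1]), (28, 22, 0, [2, 1]), (25, 19, 0, [1, 2]), (26, 23, 0, [3, 2]), (24, 21, 0, [3]), (26, 22, 0, [2, 3]), (25, 21, 0, [2])] = true := by
  decide +kernel

theorem E6.liftOK : E6.data.liftOK
    [(57, 29, 0, [2, 0]), (42, 14, 0, [2]), (47, 32, 0, [3, 1]), (39, 24, 0, [3]), (43, 32, 0, [3, 2]), (39, 28, 0, [3]), (40, 34, 0, [4, 3]), (37, 31, 0, [4]), (38, 35, 0, [5, 4]), (36, 33, 0, [5]), (38, 34, 0, [4, 5]), (37, 33, 0, [4])] = true := by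
  decide +kernel

theorem E7.liftOK : E7.data.liftOK
    [(94, 52, 0, [2, 0]), (73, 31, 0, [2]), (79, 56, 0, [3, 1]), (69, 46, 0, [3]), (74, 56, 0, [3, 2]), (69, 51, 0, [3]), (70, 59, 0, [4, 3]), (66, 55, 0, [4]), (67, 61, 0, [5, 4]), (64, 58, 0, [5]), (65, 62, 0, [6, 5]), (63, 60, 0, [6]), (65, 61, 0, [5, 6]), (64, 60, 0, [5])] = true := by
  decide +kernel

theorem E8.liftOK : E8.data.liftOK
    [(163, 104, 0, [2, 0]), (135, 76, 0, [2]), (142, 109, 0, [3, 1]), (130, 97, 0, [3]), (136, 109, 0, [3, 2]), (130, 103, 0, [3]), (131, 113, 0, [4, 3]), (126, 108, 0, [4]), (127, 116, 0, [5, 4]), (123, 112, 0, [5]), (124, 118, 0, [6, 5]), (121, 115, 0, [6]), (122, 119, 0, [7, 6]), (120, 117, 0, [7]), (122, 118, 0, [6, 7]), (121, 117, 0, [6])] = true := by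
  decide +kernel

end CfsgLib.Chev
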