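import Cfsg.Agent.Chev.Tab.G2Data
import Cfsg.Agent.Chev.Tab.B2Data
import Cfsg.Agent.Chev.Tab.D4Data
import Cfsg.Agent.Chev.Tab.F4Data
import Cfsg.Agent.Chev.Tab.E6Data
import Cfsg.Agent.Chev.Tab.E7Data
import Cfsg.Agent.Chev.Tab.E8Data
import Cfsg.Agent.Chev.SimpleCheck
import Cfsg.Agent.Chev.GenCheck

/-! Kernel-checked table facts used for simplicity. -/

set_option autoImplicit false
set_option maxRecDepth 100000
set_option Elab.async false

namespace CfsgLib.Chev

theorem G2.connOK : G2.data.connOK = true := by decide +kernel

theorem B2.connOK : B2.data.connOK = true := by decide +kernel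

theorem D4.connOK : D4.data.connOK = true := by decide +kernel

theorem F4.connOK : F4.data.connOK = true := by decide +kernel

theorem E6.connOK : E6.data.connOK = true := by decide +kernel

theorem E7.connOK : E7.data.connOK = true := by decide +kernel

theorem E8.connOK : E8.data.connOK = true := by decide +kernel

theorem G2.oddOK : ∀ j < 2, G2.data.oddOK j = true := by decide +kernel

theorem B2.oddOK : ∀ j < 2, B2.data.oddOK j = true ∨ (List.elem j (B2.data.commRoots 2 [1 - j])) = true := by
  decide +kernel

theorem D4.derivedOK : D4.data.derivedOK = true := by decide +kernel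

theorem F4.derivedOK : F4.data.derivedOK = true := by decide +kernel

theorem E6.derivedOK : E6.data.derivedOK = true := by decide +kernel

theorem E7.derivedOK : E7.data.derivedOK = true := by decide +kernel

theorem E8.derivedOK : E8.data.derivedOK = true := by decide +kernel

end CfsgLib.Chev
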