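import Cfsg.Agent.Chev.PoinCheck
import Cfsg.Agent.Chev.Tab.B2Data

/-! Coset representatives along the parabolic chain for type B2 (generated). -/

set_option autoImplicit false
set_option maxRecDepth 100000
set_option Elab.async false

namespace CfsgLib.Chev.B2

/-- level 1 -/
def reps1 : List Rep := [
  ⟨0x706050403020100, 0x405, 0, 0, 0, 0x1⟩,
  ⟨0x406020700050103, 0x702, 1, 0, 0, 0x0⟩]

/-- level 2 -/
def reps2 : List Rep := [
  ⟨0x706050403020100, 0x405, 0, 0, 0, 0x2200⟩,
  ⟨0x705060304010200, 0x306, 1, 0, 1, 0x2⟩,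
  ⟨0x402060007010503, 0x701, 2, 1, 0, 0x6001⟩,
  ⟨0x301050007020604, 0x5, 3, 2, 1, 0x4203⟩]

theorem coefOK : data.coefOK = true := by decide +kernel

theorem level1 : data.levelOK 1 reps1 = true := by decide +kernel

theorem level2 : data.levelOK 2 reps2 = true := by decide +kernel

end CfsgLib.Chev.B2
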