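import Cfsg.Agent.Chev.PoinCheck
import Cfsg.Agent.Chev.Tab.D4Data

/-! Coset representatives along the parabolic chain for type D4 (generated). -/

set_option autoImplicit false
set_option maxRecDepth 100000
set_option Elab.async false

namespace CfsgLib.Chev.D4

/-- level 1 -/
def reps1 : List Rep := [
  ⟨0x17161514131211100f0e0d0c0b0a09080706050403020100, 0xc0d0e12, 0, 0, 0, 0x1⟩,
  ⟨0x1711100f0e05161514130d0c0b0a04030201120908070600, 0xc0d1305, 1, 0, 0, 0x0⟩]

/-- level 2 -/
def reps2 : List Rep := [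
  ⟨0x17161514131211100f0e0d0c0b0a09080706050403020100, 0xc0d0e12, 0, 0, 0, 0x2200⟩,
  ⟨0x161715141213110d0c09100f08070e0b0a06040503020001, 0xf100913, 1, 0, 1, 0x2⟩,
  ⟨0x1117100f050e160d0c0415140302130b0a01091208070006, 0xf101204, 2, 1, 0, 0x404001⟩]

/-- level 3 -/
def reps3 : List Rep := [
  ⟨0x17161514131211100f0e0d0c0b0a09080706050403020100, 0xc0d0e12, 0, 0, 0, 0x4800200⟩,
  ⟨0x1714131615120f0e11100a0c0b0d07060908050201040300, 0xc0a1012, 1, 0, 2, 0x4201⟩,
  ⟨0x1614121715130c09110d070f08100a060e0b040200050301, 0x110e0715, 2, 1, 1, 0x1008002003⟩,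
  ⟨0x110f0517100e0c04160d021403150a01130b090700120806, 0x110e1202, 3, 2, 0, 0x100c406002⟩]

/-- level 4 -/
def reps4 : List Rep := [
  ⟨0x17161514131211100f0e0d0c0b0a09080706050403020100, 0xc0d0e12, 0, 0, 0, 0x9800800200⟩,
  ⟨0x17151613141210110e0f0d0b0c0a08090607050304010200, 0xb0d0f12, 1, 0, 3, 0x1804004201⟩,
  ⟨0x1615171214130d11090c10080f070b0e060a040305000201, 0xe110814, 2, 1, 1, 0x2010010002003⟩,
  ⟨0x111017050f0e0d16040c150314020b13010a090812000706, 0xe111203, 3, 2, 0, 0x2018014406002⟩,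
  ⟨0x1413171216150a0f070c0e0611090b10080d020105000403, 0xe060d14, 3, 2, 2, 0x2020008c08005⟩,
  ⟨0xf0e170511100a14020c130116040b15030d070612000908, 0xe061603, 4, 3, 2, 0x202800c00c004⟩,
  ⟨0xc091604110d0714020f12001705081503100a0613010e0b, 0x1712010d, 5, 5, 1, 0x3881800a606⟩,
  ⟨0xb081503100d0613010e12001705091604110a0714020f0c, 0x120e0d, 6, 6, 3, 0x3081c80e607⟩]

theorem coefOK : data.coefOK = true := by decide +kernel

theorem level1 : data.levelOK 1 reps1 = true := by decide +kernel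

theorem level2 : data.levelOK 2 reps2 = true := by decide +kernel

theorem level3 : data.levelOK 3 reps3 = true := by decide +kernel

theorem level4 : data.levelOK 4 reps4 = true := by decide +kernel

end CfsgLib.Chev.D4
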