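import Cfsg.Agent.Chev.PoinCheck
import Cfsg.Agent.Chev.Tab.G2Data

/-! Coset representatives along the parabolic chain for type G2 (generated). -/

set_option autoImplicit false
set_option maxRecDepth 100000
set_option Elab.async false

namespace CfsgLib.Chev.G2

/-- level 1 -/
def reps1 : List Rep := [
  ⟨0xb0a09080706050403020100, 0x607, 0, 0, 0, 0x1⟩,
  ⟨0xb060809040a010702030500, 0xa04, 1, 0, 0, 0x0⟩]

/-- level 2 -/
def reps2 : List Rep := [
  ⟨0xb0a09080706050403020100, 0x607, 0, 0, 0, 0x2200⟩,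
  ⟨0xa0b09070805060304020001, 0x508, 1, 0, 1, 0x2⟩,
  ⟨0x60b080409010a0207030005, 0xb03, 2, 1, 0, 0x6001⟩,
  ⟨0x50a070309000b0208040106, 0x9, 3, 2, 1, 0x4004⟩,
  ⟨0x106040208000b030907050a, 0xa02, 4, 3, 0, 0xa003⟩,
  ⟨0x5030207010a040908060b, 0x107, 5, 4, 1, 0x8205⟩]

theorem coefOK : data.coefOK = true := by decide +kernel

theorem level1 : data.levelOK 1 reps1 = true := by decide +kernel

theorem level2 : data.levelOK 2 reps2 = true := by decide +kernel

end CfsgLib.Chev.G2
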