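import Cfsg.Agent.Chev.Coxeter
import Cfsg.Agent.Chev.Tab.G2Data
import Cfsg.Agent.Chev.Tab.B2Data
import Cfsg.Agent.Chev.Tab.D4Data
import Cfsg.Agent.Chev.Tab.F4Data
import Cfsg.Agent.Chev.Tab.E6Data
import Cfsg.Agent.Chev.Tab.E7Data
import Cfsg.Agent.Chev.Tab.E8Data

/-! Kernel-checked table facts: Coxeter groups (generated). -/

set_option autoImplicit false
set_option maxRecDepth 100000
set_option Elab.async false

namespace CfsgLib.Chev

theorem G2.coxOK : CoxOK G2.data CoxeterMatrix.G₂ := by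
  intro i j
  fin_cases i <;> fin_cases j <;> exact ⟨by decide +kernel, by decide +kernel⟩

theorem G2.revOK : G2.data.revOK = true := by decide +kernel

theorem G2.fullOK : G2.data.fullOK = true := by decide +kernel

theorem G2.coxOrd : G2.data.wordOrdOK [0, 1] 6 = true := by decide +kernel

theorem G2.negPow : G2.data.negPowOK [0, 1] 3 = true := by decide +kernel

theorem G2.reach : G2.data.reachOK [0, 1] [0] (some 1) [(0, []), (0, [0])] = true := by decide +kernel

theorem B2.coxOK : CoxOK B2.data (CoxeterMatrix.B 2) := by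
  intro i j
  fin_cases i <;> fin_cases j <;> exact ⟨by decide +kernel, by decide +kernel⟩

theorem B2.revOK : B2.data.revOK = true := by decide +kernel

theorem B2.fullOK : B2.data.fullOK = true := by decide +kernel

theorem B2.coxOrd : B2.data.wordOrdOK [0, 1] 4 = true := by decide +kernel

theorem B2.negPow : B2.data.negPowOK [0, 1] 2 = true := by decide +kernel

theorem B2.reach : B2.data.reachOK [0, 1] [0] (some 1) [(0, []), (0, [0])] = true := by decide +kernel

theorem D4.coxOK : CoxOK D4.data Cfsg.Lie.coxeterD4 := by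
  intro i j
  fin_cases i <;> fin_cases j <;> exact ⟨by decide +kernel, by decide +kernel⟩

theorem D4.revOK : D4.data.revOK = true := by decide +kernel

theorem D4.fullOK : D4.data.fullOK = true := by decide +kernel

theorem D4.coxOrd : D4.data.wordOrdOK [0, 1, 2, 3] 6 = true := by decide +kernel

theorem D4.negPow : D4.data.negPowOK [0, 1, 2, 3] 3 = true := by decide +kernel

theorem D4.reach : D4.data.reachOK [0, 1, 2, 3] [0, 2] none [(0, []), (0, [0]), (1, []), (0, [0, 2, 0])] = true := by decide +kernel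

theorem F4.coxOK : CoxOK F4.data CoxeterMatrix.F₄ := by
  intro i j
  fin_cases i <;> fin_cases j <;> exact ⟨by decide +kernel, by decide +kernel⟩

theorem F4.revOK : F4.data.revOK = true := by decide +kernel

theorem F4.fullOK : F4.data.fullOK = true := by decide +kernel

theorem F4.coxOrd : F4.data.wordOrdOK [0, 1, 2, 3] 12 = true := by decide +kernel

theorem F4.negPow : F4.data.negPowOK [0, 1, 2, 3] 6 = true := by decide +kernel

theorem F4.reach : F4.data.reachOK [0, 1, 2, 3] [0, 2] none [(0, []), (0, [0]), (1, []), (1, [0])] = true := by decide +kernel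

theorem E6.coxOK : CoxOK E6.data CoxeterMatrix.E₆ := by
  intro i j
  fin_cases i <;> fin_cases j <;> exact ⟨by decide +kernel, by decide +kernel⟩

theorem E6.revOK : E6.data.revOK = true := by decide +kernel

theorem E6.fullOK : E6.data.fullOK = true := by decide +kernel

theorem E6.coxOrd : E6.data.wordOrdOK [0, 1, 2, 3, 4, 5] 12 = true := by decide +kernel

theorem E6.longOK : E6.data.longOK = true := by decide +kernel

theorem E6.notNegOK : E6.data.notNegOK = true := by decide +kernel

theorem E6.reach : E6.data.reachOK [0, 1, 2, 3, 4, 5] [0] none [(0, []), (0, [0, 0, 1, 0, 0, 0, 1]), (0, [0]), (0, [0, 0, 0, 0, 0]), (0, [0, 0, 0, 0, 0, 0]), (0, [0, 0, 0, 0, 0, 0, 0])] = true := by decide +kernel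

theorem E7.coxOK : CoxOK E7.data CoxeterMatrix.E₇ := by
  intro i j
  fin_cases i <;> fin_cases j <;> exact ⟨by decide +kernel, by decide +kernel⟩

theorem E7.revOK : E7.data.revOK = true := by decide +kernel

theorem E7.fullOK : E7.data.fullOK = true := by decide +kernel

theorem E7.coxOrd : E7.data.wordOrdOK [0, 1, 2, 3, 4, 5, 6] 18 = true := by decide +kernel

theorem E7.negPow : E7.data.negPowOK [0, 1, 2, 3, 4, 5, 6] 9 = true := by decide +kernel

theorem E7.reach : E7.data.reachOK [0, 1, 2, 3, 4, 5, 6] [1] none [(0, [0, 0, 0, 1, 0, 0, 1]), (0, []), (0, [0, 0, 0, 0, 1, 0, 0, 1]), (0, [1, 0, 0, 0, 0, 0, 1, 0, 0, 1]), (0, [0, 1, 0, 0, 0, 0, 0, 1, 0, 0, 1]), (0, [0, 0, 1, 0, 0, 0, 0, 0, 1, 0, 0, 1]), (0, [0, 0, 0, 1, 0, 0, 0, 0, 0, 1, 0, 0, 1])] = true := by decide +kernel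

theorem E8.coxOK : CoxOK E8.data CoxeterMatrix.E₈ := by
  intro i j
  fin_cases i <;> fin_cases j <;> exact ⟨by decide +kernel, by decide +kernel⟩

theorem E8.revOK : E8.data.revOK = true := by decide +kernel

theorem E8.fullOK : E8.data.fullOK = true := by decide +kernel

theorem E8.coxOrd : E8.data.wordOrdOK [0, 1, 2, 3, 4, 5, 6, 7] 30 = true := by decide +kernel

theorem E8.negPow : E8.data.negPowOK [0, 1, 2, 3, 4, 5, 6, 7] 15 = true := by decide +kernel

theorem E8.reach : E8.data.reachOK [0, 1, 2, 3, 4, 5, 6, 7] [0] none [(0, []), (0, [0, 0, 1, 0, 0, 1, 0, 0, 0, 1]), (0, [0]), (0, [0, 0, 0, 0, 1, 0, 0, 0]), (0, [0, 0, 0, 0, 0, 1, 0, 0, 0]), (0, [0, 0, 0, 0, 0, 0, 1, 0, 0, 0]), (0, [0, 0, 0, 0, 0, 0, 0, 1, 0, 0, 0]), (0, [0, 0, 0, 0, 0, 0, 0, 0, 1, 0, 0, 0])] = true := by decide +kernel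

end CfsgLib.Chev
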