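import Cfsg.Agent.Chev.Tab.E6Data
import Cfsg.Agent.Chev.Tab.D4Data
import Cfsg.Agent.Chev.Tab.B2Data
import Cfsg.Agent.Chev.Tab.F4Data
import Cfsg.Agent.Chev.Tab.G2Data
import Cfsg.Agent.Chev.GraphCheck

/-! Kernel-checked table facts: graph symmetries. -/

set_option autoImplicit false
set_option maxRecDepth 100000
set_option Elab.async false

namespace CfsgLib.Chev

/-- a graph symmetry -/
def graphE6 : RootTab :=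
  ⟨[0, 1, 2, 5, 16, 3, 6, 17, 8, 19, 22, 11, 26, 30, 33, 35, 4, 7, 18, 9, 20, 23, 10, 21, 24, 25, 12, 27, 31, 34, 13, 28, 32, 14, 29, 15, 56, 42, 57, 39, 43, 58, 37, 40, 44, 59, 46, 47, 50, 61, 48, 51, 62, 53, 64, 67, 36, 38, 41, 45, 60, 49, 52, 63, 54, 65, 68, 55, 66, 69, 70, 71],
    [1, 1, 1, 1, -1, 1, 1, -1, 1, -1, -1, 1, -1, 1, -1, 1, -1, -1, 1, -1, 1, 1, -1, 1, 1, 1, -1, 1, -1, 1, 1, -1, 1, -1, 1, 1, 1, 1, -1, 1, -1, 1, 1, -1, 1, -1, 1, 1, 1, -1, 1, 1, -1, 1, -1, -1, 1, -1, 1, -1, 1, -1, -1, 1, -1, 1, 1, -1, 1, 1, 1, 1],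
    [1, 1, 1, 1, 1, 1, 1, 1, 1, 1, 1, 1, 1, 1, 1, 1, 1, 1, 1, 1, 1, 1, 1, 1, 1, 1, 1, 1, 1, 1, 1, 1, 1, 1, 1, 1, 1, 1, 1, 1, 1, 1, 1, 1, 1, 1, 1, 1, 1, 1, 1, 1, 1, 1, 1, 1, 1, 1, 1, 1, 1, 1, 1, 1, 1, 1, 1, 1, 1, 1, 1, 1]⟩

theorem graphE6_ok : E6.data.graphOK graphE6 0 = true := by decide +kernel

theorem graphE6_pow : E6.data.powOK graphE6 2 1 = true := by decide +kernel

/-- a graph symmetry -/
def graphD4a : RootTab :=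
  ⟨[0, 1, 6, 2, 7, 10, 3, 8, 4, 9, 11, 5, 18, 12, 14, 19, 15, 20, 13, 16, 21, 17, 22, 23],
    [1, 1, -1, 1, -1, 1, -1, 1, -1, 1, 1, 1, 1, 1, 1, -1, 1, -1, 1, -1, 1, -1, 1, 1],
    [1, 1, 1, 1, 1, 1, 1, 1, 1, 1, 1, 1, 1, 1, 1, 1, 1, 1, 1, 1, 1, 1, 1, 1]⟩

theorem graphD4a_ok : D4.data.graphOK graphD4a 0 = true := by decide +kernel

theorem graphD4a_pow : D4.data.powOK graphD4a 3 1 = true := by decide +kernel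

/-- a graph symmetry -/
def graphD4b : RootTab :=
  ⟨[0, 1, 3, 6, 8, 11, 2, 4, 7, 9, 5, 10, 13, 18, 14, 16, 19, 21, 12, 15, 17, 20, 22, 23],
    [1, 1, 1, -1, -1, 1, -1, -1, 1, 1, 1, 1, 1, 1, 1, 1, -1, -1, 1, -1, -1, 1, 1, 1],
    [1, 1, 1, 1, 1, 1, 1, 1, 1, 1, 1, 1, 1, 1, 1, 1, 1, 1, 1, 1, 1, 1, 1, 1]⟩

theorem graphD4b_ok : D4.data.graphOK graphD4b 0 = true := by decide +kernel

theorem graphD4b_pow : D4.data.powOK graphD4b 3 1 = true := by decide +kernel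

/-- a graph symmetry -/
def graphB2 : RootTab :=
  ⟨[1, 0, 3, 2, 5, 4, 7, 6],
    [1, 1, 1, 1, 1, 1, 1, 1],
    [1, 2, 2, 1, 1, 2, 2, 1]⟩

theorem graphB2_ok : B2.data.graphOK graphB2 2 = true := by decide +kernel

theorem graphB2_pow : B2.data.powOK graphB2 2 2 = true := by decide +kernel

/-- a graph symmetry -/
def graphF4 : RootTab :=
  ⟨[3, 7, 8, 0, 9, 11, 18, 1, 2, 4, 15, 5, 16, 21, 23, 10, 12, 19, 6, 17, 22, 13, 20, 14, 33, 27, 34, 25, 30, 41, 28, 35, 37, 24, 26, 31, 42, 32, 43, 45, 46, 29, 36, 38, 47, 39, 40, 44],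
    [1, 1, 1, 1, 1, 1, 1, 1, 1, 1, 1, 1, 1, 1, 1, 1, 1, 1, 1, 1, 1, 1, 1, 1, 1, 1, 1, 1, 1, 1, 1, 1, 1, 1, 1, 1, 1, 1, 1, 1, 1, 1, 1, 1, 1, 1, 1, 1],
    [1, 1, 1, 2, 1, 1, 1, 2, 2, 2, 2, 2, 2, 2, 2, 1, 1, 1, 2, 2, 2, 1, 1, 1, 1, 1, 1, 2, 2, 2, 1, 1, 1, 2, 2, 2, 2, 2, 2, 2, 2, 1, 1, 1, 2, 1, 1, 1]⟩

theorem graphF4_ok : F4.data.graphOK graphF4 2 = true := by decide +kernel

theorem graphF4_pow : F4.data.powOK graphF4 2 2 = true := by decide +kernel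

/-- a graph symmetry -/
def graphG2 : RootTab :=
  ⟨[2, 3, 0, 1, 5, 4, 7, 6, 10, 11, 8, 9],
    [1, 1, 1, 1, 1, 1, 1, 1, 1, 1, 1, 1],
    [1, 1, 3, 3, 3, 1, 1, 3, 3, 3, 1, 1]⟩

theorem graphG2_ok : G2.data.graphOK graphG2 3 = true := by decide +kernel

theorem graphG2_pow : G2.data.powOK graphG2 2 3 = true := by decide +kernel

/-- a graph symmetry -/
def graphD4id : RootTab :=
  ⟨[0, 1, 2, 3, 4, 5, 6, 7, 8, 9, 10, 11, 12, 13, 14, 15, 16, 17, 18, 19, 20, 21, 22, 23],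
    [1, 1, 1, 1, 1, 1, 1, 1, 1, 1, 1, 1, 1, 1, 1, 1, 1, 1, 1, 1, 1, 1, 1, 1],
    [1, 1, 1, 1, 1, 1, 1, 1, 1, 1, 1, 1, 1, 1, 1, 1, 1, 1, 1, 1, 1, 1, 1, 1]⟩

theorem graphD4id_ok : D4.data.graphOK graphD4id 0 = true := by decide +kernel

theorem graphD4id_pow : D4.data.powOK graphD4id 1 1 = true := by decide +kernel

/-- a graph symmetry -/
def graphD4c : RootTab :=
  ⟨[0, 1, 2, 6, 7, 10, 3, 4, 8, 9, 5, 11, 12, 18, 14, 15, 19, 20, 13, 16, 17, 21, 22, 23],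
    [1, 1, 1, -1, -1, 1, -1, -1, 1, 1, 1, 1, 1, 1, 1, 1, -1, -1, 1, -1, -1, 1, 1, 1],
    [1, 1, 1, 1, 1, 1, 1, 1, 1, 1, 1, 1, 1, 1, 1, 1, 1, 1, 1, 1, 1, 1, 1, 1]⟩

theorem graphD4c_ok : D4.data.graphOK graphD4c 0 = true := by decide +kernel

theorem graphD4c_pow : D4.data.powOK graphD4c 2 1 = true := by decide +kernel

/-- a graph symmetry -/
def graphD4d : RootTab :=
  ⟨[0, 1, 6, 3, 8, 11, 2, 7, 4, 9, 10, 5, 18, 13, 14, 19, 16, 21, 12, 15, 20, 17, 22, 23],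
    [1, 1, -1, 1, -1, 1, -1, 1, -1, 1, 1, 1, 1, 1, 1, -1, 1, -1, 1, -1, 1, -1, 1, 1],
    [1, 1, 1, 1, 1, 1, 1, 1, 1, 1, 1, 1, 1, 1, 1, 1, 1, 1, 1, 1, 1, 1, 1, 1]⟩

theorem graphD4d_ok : D4.data.graphOK graphD4d 0 = true := by decide +kernel

theorem graphD4d_pow : D4.data.powOK graphD4d 2 1 = true := by decide +kernel

/-- a graph symmetry -/
def graphD4e : RootTab :=
  ⟨[0, 1, 3, 2, 4, 5, 6, 8, 7, 9, 11, 10, 13, 12, 14, 16, 15, 17, 18, 19, 21, 20, 22, 23],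
    [1, 1, 1, 1, 1, 1, 1, 1, 1, 1, 1, 1, 1, 1, 1, 1, 1, 1, 1, 1, 1, 1, 1, 1],
    [1, 1, 1, 1, 1, 1, 1, 1, 1, 1, 1, 1, 1, 1, 1, 1, 1, 1, 1, 1, 1, 1, 1, 1]⟩

theorem graphD4e_ok : D4.data.graphOK graphD4e 0 = true := by decide +kernel

theorem graphD4e_pow : D4.data.powOK graphD4e 2 1 = true := by decide +kernel

/-- a graph symmetry -/
def graphE6id : RootTab :=
  ⟨[0, 1, 2, 3, 4, 5, 6, 7, 8, 9, 10, 11, 12, 13, 14, 15, 16, 17, 18, 19, 20, 21, 22, 23, 24, 25, 26, 27, 28, 29, 30, 31, 32, 33, 34, 35, 36, 37, 38, 39, 40, 41, 42, 43, 44, 45, 46, 47, 48, 49, 50, 51, 52, 53, 54, 55, 56, 57, 58, 59, 60, 61, 62, 63, 64, 65, 66, 67, 68, 69, 70, 71],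
    [1, 1, 1, 1, 1, 1, 1, 1, 1, 1, 1, 1, 1, 1, 1, 1, 1, 1, 1, 1, 1, 1, 1, 1, 1, 1, 1, 1, 1, 1, 1, 1, 1, 1, 1, 1, 1, 1, 1, 1, 1, 1, 1, 1, 1, 1, 1, 1, 1, 1, 1, 1, 1, 1, 1, 1, 1, 1, 1, 1, 1, 1, 1, 1, 1, 1, 1, 1, 1, 1, 1, 1],
    [1, 1, 1, 1, 1, 1, 1, 1, 1, 1, 1, 1, 1, 1, 1, 1, 1, 1, 1, 1, 1, 1, 1, 1, 1, 1, 1, 1, 1, 1, 1, 1, 1, 1, 1, 1, 1, 1, 1, 1, 1, 1, 1, 1, 1, 1, 1, 1, 1, 1, 1, 1, 1, 1, 1, 1, 1, 1, 1, 1, 1, 1, 1, 1, 1, 1, 1, 1, 1, 1, 1, 1]⟩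

theorem graphE6id_ok : E6.data.graphOK graphE6id 0 = true := by decide +kernel

theorem graphE6id_pow : E6.data.powOK graphE6id 1 1 = true := by decide +kernel

end CfsgLib.Chev
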