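import Cfsg.Agent.Chev.Tab.G2Data
import Cfsg.Agent.Chev.Tab.B2Data
import Cfsg.Agent.Chev.Tab.D4Data
import Cfsg.Agent.Chev.Tab.F4Data
import Cfsg.Agent.Chev.Tab.E6Data
import Cfsg.Agent.Chev.Tab.E7Data
import Cfsg.Agent.Chev.Tab.E8Data
import Cfsg.Agent.Chev.EtaCheck

/-! Kernel-checked table facts: monomial signs. -/

set_option autoImplicit false
set_option maxRecDepth 100000
set_option Elab.async false

namespace CfsgLib.Chev

theorem G2.etaOK : G2.data.etaOK = true := by decide +kernel

theorem B2.etaOK : B2.data.etaOK = true := by decide +kernel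

theorem D4.etaOK : D4.data.etaOK = true := by decide +kernel

theorem F4.etaOK : F4.data.etaOK = true := by decide +kernel

theorem E6.etaOK : E6.data.etaOK = true := by decide +kernel

theorem E7.etaOK : E7.data.etaOK = true := by decide +kernel

theorem E8.etaOK : E8.data.etaOK = true := by decide +kernel

end CfsgLib.Chev
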