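import Cfsg.Agent.Chev.Tab.G2Data
import Cfsg.Agent.Chev.Tab.B2Data
import Cfsg.Agent.Chev.Tab.D4Data
import Cfsg.Agent.Chev.Tab.F4Data
import Cfsg.Agent.Chev.Tab.E6Data
import Cfsg.Agent.Chev.Tab.E7Data
import Cfsg.Agent.Chev.Tab.E8Data
import Cfsg.Agent.Chev.CombCheck

/-! Kernel-checked table facts: combinations of fundamental roots. -/

set_option autoImplicit false
set_option maxRecDepth 100000
set_option Elab.async false

namespace CfsgLib.Chev

theorem G2.combOK : G2.data.combOK = true := by decide +kernel

theorem B2.combOK : B2.data.combOK = true := by decide +kernel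

theorem D4.combOK : D4.data.combOK = true := by decide +kernel

theorem F4.combOK : F4.data.combOK = true := by decide +kernel

theorem E6.combOK : E6.data.combOK = true := by decide +kernel

theorem E7.combOK : E7.data.combOK = true := by decide +kernel

theorem E8.combOK : E8.data.combOK = true := by decide +kernel

end CfsgLib.Chev
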