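import Cfsg.Agent.Chev.Tab.G2Data
import Cfsg.Agent.Chev.Tab.B2Data
import Cfsg.Agent.Chev.Tab.D4Data
import Cfsg.Agent.Chev.Tab.F4Data
import Cfsg.Agent.Chev.Tab.E6Data
import Cfsg.Agent.Chev.Tab.E7Data
import Cfsg.Agent.Chev.Tab.E8Data
import Cfsg.Agent.Chev.StepCheck

/-! Kernel-checked table facts: steps by fundamental roots. -/

set_option autoImplicit false
set_option maxRecDepth 100000
set_option Elab.async false

namespace CfsgLib.Chev

theorem G2.stepOK : G2.data.stepOK = true := by decide +kernel

theorem B2.stepOK : B2.data.stepOK = true := by decide +kernel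

theorem D4.stepOK : D4.data.stepOK = true := by decide +kernel

theorem F4.stepOK : F4.data.stepOK = true := by decide +kernel

theorem E6.stepOK : E6.data.stepOK = true := by decide +kernel

theorem E7.stepOK : E7.data.stepOK = true := by decide +kernel

theorem E8.stepOK : E8.data.stepOK = true := by decide +kernel

end CfsgLib.Chev
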