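import Cfsg.Agent.Chev.Checks3
import Cfsg.Agent.Chev.Tab.E8Data

/-! Kernel-checked table facts for type E8: descent (generated). -/

set_option autoImplicit false
set_option maxRecDepth 100000

namespace CfsgLib.Chev.E8

theorem descOK : data.descOK = true := by decide +kernel

end CfsgLib.Chev.E8
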