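import Cfsg.Agent.Chev.Tab.G2Data
import Cfsg.Agent.Chev.Tab.B2Data
import Cfsg.Agent.Chev.Tab.D4Data
import Cfsg.Agent.Chev.Tab.F4Data
import Cfsg.Agent.Chev.Tab.E6Data
import Cfsg.Agent.Chev.Tab.E7Data
import Cfsg.Agent.Chev.Tab.E8Data
import Cfsg.Agent.Chev.GenCheck
import Cfsg.Prelude.Def_ChevAutomorphisms

/-! Kernel-checked table facts: generation by a short root subgroup and the monomial subgroup. -/

set_option autoImplicit false
set_option maxRecDepth 100000
set_option Elab.async false

namespace CfsgLib.Chev

open Cfsg.Lie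

theorem G2.genOK : ∀ i < chevG2.rank, chevG2.isLong (chevG2.simple i) = false →
    G2.data.genOK 3 [i] = true := by decide +kernel

theorem B2.genOK : ∀ i < chevB2.rank, chevB2.isLong (chevB2.simple i) = false →
    B2.data.genOK 2 [i] = true := by decide +kernel

theorem F4.genOK : ∀ i < chevF4.rank, chevF4.isLong (chevF4.simple i) = false →
    F4.data.genOK 2 [i] = true := by decide +kernel

theorem D4.genOK : ∀ i < chevD4.rank, D4.data.genOK 1 [i] = true := by decide +kernel

theorem E6.genOK : ∀ i < chevE6.rank, E6.data.genOK 1 [i] = true := by decide +kernel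

theorem E7.genOK : ∀ i < chevE7.rank, E7.data.genOK 1 [i] = true := by decide +kernel

theorem E8.genOK : ∀ i < chevE8.rank, E8.data.genOK 1 [i] = true := by decide +kernel

theorem G2.genOK_pair : ∀ i < chevG2.rank, ∀ j < chevG2.rank,
    chevG2.isLong (chevG2.simple i) = false → chevG2.isLong (chevG2.simple j) = true →
    chevG2.bonds i j ≠ 0 → G2.data.genOK 1 [i, j] = true := by decide +kernel

theorem B2.genOK_pair : ∀ i < chevB2.rank, ∀ j < chevB2.rank,
    chevB2.isLong (chevB2.simple i) = false → chevB2.isLong (chevB2.simple j) = true →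
    chevB2.bonds i j ≠ 0 → B2.data.genOK 1 [i, j] = true := by decide +kernel

theorem F4.genOK_pair : ∀ i < chevF4.rank, ∀ j < chevF4.rank,
    chevF4.isLong (chevF4.simple i) = false → chevF4.isLong (chevF4.simple j) = true →
    chevF4.bonds i j ≠ 0 → F4.data.genOK 1 [i, j] = true := by decide +kernel

end CfsgLib.Chev
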