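import Cfsg.Agent.Chev.Run.Graph
import Cfsg.Agent.Chev.TwistCheck
import Cfsg.Agent.Chev.TwistTab

/-! Kernel-checked table facts: fixed Weyl groups of the twisted types (generated). -/

set_option autoImplicit false
set_option maxRecDepth 100000
set_option Elab.async false

namespace CfsgLib.Chev

/-- orbits of the twist of E6 -/
def twE6Os : List (List ℕ) := [[1], [3], [2, 4], [0, 5]]

/-- words for the longest elements of the orbits -/
def twE6Ws : List (List ℕ) := [[1], [3], [2, 4], [0, 5]]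

theorem twE6_sym : E6.data.symTabOK graphE6 [5, 1, 4, 3, 2, 0] = true := by decide +kernel

theorem twE6_max : E6.data.twMaxOK twE6Os twE6Ws = true := by decide +kernel

/-- representatives at level 0 -/
def twE6R0 : List (List ℕ) := [[], [0]]

theorem twE6_level0 : E6.data.twLevelOK twE6Os twE6Ws 0 twE6R0 = true := by decide +kernel

theorem twE6_keys0 : (twE6R0.map (E6.data.twKey twE6Ws)).Nodup := by decide +kernel

theorem twE6_lens0 : twE6R0.map (E6.data.twLen twE6Ws) = [0, 1] := by decide +kernel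

/-- representatives at level 1 -/
def twE6R1 : List (List ℕ) := [[], [1], [0, 1]]

theorem twE6_level1 : E6.data.twLevelOK twE6Os twE6Ws 1 twE6R1 = true := by decide +kernel

theorem twE6_keys1 : (twE6R1.map (E6.data.twKey twE6Ws)).Nodup := by decide +kernel

theorem twE6_lens1 : twE6R1.map (E6.data.twLen twE6Ws) = [0, 1, 2] := by decide +kernel

/-- representatives at level 2 -/
def twE6R2 : List (List ℕ) := [[], [2], [1, 2], [0, 1, 2], [2, 1, 2], [2, 0, 1, 2], [1, 2, 0, 1, 2], [2, 1, 2, 0, 1, 2]]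

theorem twE6_level2 : E6.data.twLevelOK twE6Os twE6Ws 2 twE6R2 = true := by decide +kernel

theorem twE6_keys2 : (twE6R2.map (E6.data.twKey twE6Ws)).Nodup := by decide +kernel

theorem twE6_lens2 : twE6R2.map (E6.data.twLen twE6Ws) = [0, 2, 3, 4, 5, 6, 7, 9] := by decide +kernel

/-- representatives at level 3 -/
def twE6R3 : List (List ℕ) := [[], [3], [2, 3], [1, 2, 3], [0, 1, 2, 3], [2, 1, 2, 3], [2, 0, 1, 2, 3], [3, 2, 1, 2, 3], [1, 2, 0, 1, 2, 3], [3, 2, 0, 1, 2, 3], [2, 1, 2, 0, 1, 2, 3], [3, 1, 2, 0, 1, 2, 3], [3, 2, 1, 2, 0, 1, 2, 3], [2, 3, 1, 2, 0, 1, 2, 3], [2, 3, 2, 1, 2, 0, 1, 2, 3], [1, 2, 3, 1, 2, 0, 1, 2, 3], [1, 2, 3, 2, 1, 2, 0, 1, 2, 3], [0, 1, 2, 3, 1, 2, 0, 1, 2, 3], [0, 1, 2, 3, 2, 1, 2, 0, 1, 2, 3], [2, 1, 2, 3, 2, 1, 2, 0, 1, 2, 3], [2, 0, 1, 2, 3, 2, 1, 2, 0, 1, 2, 3], [1, 2, 0, 1, 2, 3, 2, 1, 2, 0, 1, 2, 3], [2, 1, 2, 0, 1, 2, 3, 2, 1, 2, 0, 1, 2, 3], [3, 2, 1, 2, 0, 1, 2, 3, 2, 1, 2, 0, 1, 2, 3]]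

theorem twE6_level3 : E6.data.twLevelOK twE6Os twE6Ws 3 twE6R3 = true := by decide +kernel

theorem twE6_keys3 : (twE6R3.map (E6.data.twKey twE6Ws)).Nodup := by decide +kernel

theorem twE6_lens3 : twE6R3.map (E6.data.twLen twE6Ws) = [0, 2, 4, 5, 6, 7, 8, 9, 9, 10, 11, 11, 13, 13, 15, 14, 16, 15, 17, 18, 19, 20, 22, 24] := by decide +kernel

theorem twE6_ords : (List.range 4).all (fun i => (List.range 4).all fun j =>
    E6.data.wordOrdOK (Data.twWord twE6Ws [i, j]) (([[1, 3, 2, 2], [3, 1, 4, 2], [2, 4, 1, 3], [2, 2, 3, 1]] : List (List ℕ)).getD i []|>.getD j 0)) = true := by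
  decide +kernel

/-- orbits of the twist of D4 -/
def twD4Os : List (List ℕ) := [[1], [0, 2, 3]]

/-- words for the longest elements of the orbits -/
def twD4Ws : List (List ℕ) := [[1], [0, 2, 3]]

theorem twD4_sym : D4.data.symTabOK graphD4a [2, 1, 3, 0] = true := by decide +kernel

theorem twD4_max : D4.data.twMaxOK twD4Os twD4Ws = true := by decide +kernel

/-- representatives at level 0 -/
def twD4R0 : List (List ℕ) := [[], [0]]

theorem twD4_level0 : D4.data.twLevelOK twD4Os twD4Ws 0 twD4R0 = true := by decide +kernel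

theorem twD4_keys0 : (twD4R0.map (D4.data.twKey twD4Ws)).Nodup := by decide +kernel

theorem twD4_lens0 : twD4R0.map (D4.data.twLen twD4Ws) = [0, 1] := by decide +kernel

/-- representatives at level 1 -/
def twD4R1 : List (List ℕ) := [[], [1], [0, 1], [1, 0, 1], [0, 1, 0, 1], [1, 0, 1, 0, 1]]

theorem twD4_level1 : D4.data.twLevelOK twD4Os twD4Ws 1 twD4R1 = true := by decide +kernel

theorem twD4_keys1 : (twD4R1.map (D4.data.twKey twD4Ws)).Nodup := by decide +kernel

theorem twD4_lens1 : twD4R1.map (D4.data.twLen twD4Ws) = [0, 3, 4, 7, 8, 11] := by decide +kernel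

theorem twD4_ords : (List.range 2).all (fun i => (List.range 2).all fun j =>
    D4.data.wordOrdOK (Data.twWord twD4Ws [i, j]) (([[1, 6], [6, 1]] : List (List ℕ)).getD i []|>.getD j 0)) = true := by
  decide +kernel

/-- orbits of the twist of F4 -/
def twF4Os : List (List ℕ) := [[0, 3], [1, 2]]

/-- words for the longest elements of the orbits -/
def twF4Ws : List (List ℕ) := [[0, 3], [1, 2, 1, 2]]

theorem twF4_sym : F4.data.symTabOK graphF4 [3, 2, 1, 0] = true := by decide +kernel

theorem twF4_max : F4.data.twMaxOK twF4Os twF4Ws = true := by decide +kernel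

/-- representatives at level 0 -/
def twF4R0 : List (List ℕ) := [[], [0]]

theorem twF4_level0 : F4.data.twLevelOK twF4Os twF4Ws 0 twF4R0 = true := by decide +kernel

theorem twF4_keys0 : (twF4R0.map (F4.data.twKey twF4Ws)).Nodup := by decide +kernel

theorem twF4_lens0 : twF4R0.map (F4.data.twLen twF4Ws) = [0, 2] := by decide +kernel

/-- representatives at level 1 -/
def twF4R1 : List (List ℕ) := [[], [1], [0, 1], [1, 0, 1], [0, 1, 0, 1], [1, 0, 1, 0, 1], [0, 1, 0, 1, 0, 1], [1, 0, 1, 0, 1, 0, 1]]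

theorem twF4_level1 : F4.data.twLevelOK twF4Os twF4Ws 1 twF4R1 = true := by decide +kernel

theorem twF4_keys1 : (twF4R1.map (F4.data.twKey twF4Ws)).Nodup := by decide +kernel

theorem twF4_lens1 : twF4R1.map (F4.data.twLen twF4Ws) = [0, 4, 6, 10, 12, 16, 18, 22] := by decide +kernel

theorem twF4_ords : (List.range 2).all (fun i => (List.range 2).all fun j =>
    F4.data.wordOrdOK (Data.twWord twF4Ws [i, j]) (([[1, 8], [8, 1]] : List (List ℕ)).getD i []|>.getD j 0)) = true := by
  decide +kernel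

/-- orbits of the twist of G2 -/
def twG2Os : List (List ℕ) := [[0, 1]]

/-- words for the longest elements of the orbits -/
def twG2Ws : List (List ℕ) := [[0, 1, 0, 1, 0, 1]]

theorem twG2_sym : G2.data.symTabOK graphG2 [1, 0] = true := by decide +kernel

theorem twG2_max : G2.data.twMaxOK twG2Os twG2Ws = true := by decide +kernel

/-- representatives at level 0 -/
def twG2R0 : List (List ℕ) := [[], [0]]

theorem twG2_level0 : G2.data.twLevelOK twG2Os twG2Ws 0 twG2R0 = true := by decide +kernel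

theorem twG2_keys0 : (twG2R0.map (G2.data.twKey twG2Ws)).Nodup := by decide +kernel

theorem twG2_lens0 : twG2R0.map (G2.data.twLen twG2Ws) = [0, 6] := by decide +kernel

end CfsgLib.Chev
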